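import Groth.Agent.Lib.GerbBand16.IsoPt
import Groth.Agent.Lib.SpQuot16.Torsor
import Groth.Agent.Lib.GerbAbs16.Banding
import Groth.Agent.Lib.GerbAbs16.Chart
import Groth.Prelude.Def_StGerb

/-!
# The sheaf of isomorphisms of two objects of a banded gerbe

Near every point of the base it is the group.
-/

universe u

open CategoryTheory CategoryTheory.Limits MonoidalCategory CartesianMonoidalCategory AlgebraicGeometry Opposite

set_option linter.style.haveILetI false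
set_option linter.unusedSectionVars false
set_option backward.isDefEq.respectTransparency false
set_option backward.isDefEq.respectTransparency.types false

namespace Groth.Agent.GerbBand16

open AlgSt Groth.Agent.SpQuot16
open FC16 hiding overMap
open Groth.Agent.AlgSpace (sect hom_ext_yon)
open Groth.Agent.Quot16 (GluesHom)

variable {S : Scheme.{u}} {𝒳 : AlgSt.Cat S} {A : Over S} [GrpObj A] (β : Gerb.Banding 𝒳 (yonedaGrpObj A))
  {T : Over S}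

/-- the automorphism of a member of a family attached to a point of the group -/
noncomputable def autAt (y : FibCat.overCat T ⥤ᵇ 𝒳) {V : Over S} (g : V ⟶ T) (a : V ⟶ A) :
    y.obj (Over.mk g) ⟶ y.obj (Over.mk g) :=
  (β.iso (y.obj (Over.mk g)) (show _ ⟶ A from eqToHom (y.w_obj (Over.mk g)) ≫ a)).hom.1

theorem autAt_lift (y : FibCat.overCat T ⥤ᵇ 𝒳) {V : Over S} (g : V ⟶ T) (a : V ⟶ A) :
    𝒳.p.IsHomLift (𝟙 V) (autAt β y g a) :=
  IsHomLift.of_fac' 𝒳.p _ _ (y.w_obj _) (y.w_obj _) (by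
    rw [show 𝒳.p.map (autAt β y g a) = 𝟙 _ from GerbAbs.Band.map_val _]
    simp)

theorem autAt_nat (y : FibCat.overCat T ⥤ᵇ 𝒳) {V W : Over S} (j : W ⟶ V) {g : V ⟶ T} {g' : W ⟶ T}
    (m : Over.mk g' ⟶ Over.mk g) (hm : m.left = j) (a : V ⟶ A) :
    autAt β y g' (j ≫ a) ≫ y.map m = y.map m ≫ autAt β y g a := by
  haveI := map_over_lift y m
  have e : 𝒳.p.map (y.map m) ≫ eqToHom (y.w_obj (Over.mk g)) = eqToHom (y.w_obj (Over.mk g')) ≫ j := by
    haveI : 𝒳.p.IsHomLift j (y.map m) := hm ▸ map_over_lift y m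
    rw [IsHomLift.fac' 𝒳.p j (y.map m)]
    simp
  have h := β.natural (y.map m) (show _ ⟶ A from eqToHom (y.w_obj (Over.mk g)) ≫ a)
  have e' : (yonedaGrpObj A).map (𝒳.p.map (y.map m)).op (show _ ⟶ A from eqToHom (y.w_obj (Over.mk g)) ≫ a) =
      (show _ ⟶ A from eqToHom (y.w_obj (Over.mk g')) ≫ j ≫ a) := by
    show 𝒳.p.map (y.map m) ≫ eqToHom (y.w_obj (Over.mk g)) ≫ a = _
    rw [← Category.assoc, e, Category.assoc]
  rw [e'] at h
  exact h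

include β in
theorem autAt_inj (y : FibCat.overCat T ⥤ᵇ 𝒳) {V : Over S} (g : V ⟶ T) {a a' : V ⟶ A}
    (h : autAt β y g a = autAt β y g a') : a = a' := by
  have h' := (β.iso _).injective (GerbAbs.Band.autO_ext h)
  exact (cancel_epi (eqToHom (y.w_obj (Over.mk g)))).1 h'

theorem exists_autAt (hX : FibCat.IsFibGrpd 𝒳.p) (y : FibCat.overCat T ⥤ᵇ 𝒳) {V : Over S} (g : V ⟶ T)
    (ν : y.obj (Over.mk g) ⟶ y.obj (Over.mk g)) [𝒳.p.IsHomLift (𝟙 V) ν] :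
    ∃ a : V ⟶ A, autAt β y g a = ν := by
  obtain ⟨α, hα⟩ := GerbAbs.Band.exists_autO hX ν (by
    rw [IsHomLift.fac' 𝒳.p (𝟙 V) ν]
    simp)
  obtain ⟨a₀, rfl⟩ := (β.iso _).surjective α
  refine ⟨eqToHom (y.w_obj (Over.mk g)).symm ≫ (show _ ⟶ A from a₀), ?_⟩
  rw [← hα]
  show (β.iso _ _).hom.1 = _
  simp

section Local

variable (hX : FibCat.IsFibGrpd 𝒳.p) {y₁ y₂ : FibCat.overCat T ⥤ᵇ 𝒳} {T' : Over S} {k : T' ⟶ T}
  (h₀ : y₁.obj (Over.mk k) ⟶ y₂.obj (Over.mk k)) [lh₀ : 𝒳.p.IsHomLift (𝟙 T') h₀]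

/-- the given isomorphism, restricted -/
noncomputable def c₀ {V : Over S} (f : V ⟶ T') : IsoPt y₁ y₂ V :=
  IsoPt.map hX f (⟨k, h₀, lh₀⟩ : IsoPt y₁ y₂ T')

/-- the point of the sheaf of isomorphisms attached to a point of the group -/
noncomputable def locPt {V : Over S} (f : V ⟶ T') (a : V ⟶ A) : IsoPt y₁ y₂ V where
  g := f ≫ k
  h := autAt β y₁ (f ≫ k) a ≫ (c₀ hX h₀ f).homAt (f ≫ k) rfl
  lift := by
    haveI := autAt_lift β y₁ (f ≫ k) a
    haveI := IsoPt.homAt_lift (c₀ hX h₀ f) (f ≫ k) rfl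
    have h : 𝒳.p.IsHomLift (𝟙 V ≫ 𝟙 V) (autAt β y₁ (f ≫ k) a ≫ (c₀ hX h₀ f).homAt (f ≫ k) rfl) := inferInstance
    rwa [Category.id_comp] at h

theorem locPt_nat {V W : Over S} (j : W ⟶ V) (f : V ⟶ T') (a : V ⟶ A) :
    (locPt β hX h₀ f a).map hX j = locPt β hX h₀ (j ≫ f) (j ≫ a) := by
  let m : Over.mk ((j ≫ f) ≫ k) ⟶ Over.mk (f ≫ k) := Over.homMk j (Category.assoc _ _ _).symm
  refine IsoPt.map_eq hX j (locPt β hX h₀ f a) (locPt β hX h₀ (j ≫ f) (j ≫ a)) m rfl ?_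
  have e : (c₀ hX h₀ (j ≫ f)).homAt ((j ≫ f) ≫ k) rfl ≫ y₂.map m =
      y₁.map m ≫ (c₀ hX h₀ f).homAt (f ≫ k) rfl := by
    have e1 : (c₀ hX h₀ (j ≫ f)).homAt ((j ≫ f) ≫ k) rfl =
        ((c₀ hX h₀ f).map hX j).homAt ((j ≫ f) ≫ k) (Category.assoc _ _ _).symm :=
      IsoPt.homAt_congr (IsoPt.map_comp hX f j _) _ _
    rw [e1]
    exact IsoPt.homAt_nat hX (c₀ hX h₀ f) rfl m rfl _
  show (autAt β y₁ ((j ≫ f) ≫ k) (j ≫ a) ≫ _) ≫ y₂.map m = y₁.map m ≫ autAt β y₁ (f ≫ k) a ≫ _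
  refine (Category.assoc _ _ _).trans ((congrArg (fun q => autAt β y₁ ((j ≫ f) ≫ k) (j ≫ a) ≫ q) e).trans ?_)
  refine (Category.assoc _ _ _).symm.trans ((congrArg (fun q => q ≫ _) (autAt_nat β y₁ j m rfl a)).trans ?_)
  exact Category.assoc _ _ _

theorem exists_locPt {V : Over S} (f : V ⟶ T') (p : IsoPt y₁ y₂ V) (hp : p.g = f ≫ k) :
    ∃ a : V ⟶ A, locPt β hX h₀ f a = p := by
  haveI := IsoPt.homAt_lift (c₀ hX h₀ f) (f ≫ k) rfl
  haveI := IsoPt.homAt_lift p (f ≫ k) hp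
  haveI : IsIso ((c₀ hX h₀ f).homAt (f ≫ k) rfl) := FC16.isIso_of_isHomLift hX (𝟙 V) _
  haveI : 𝒳.p.IsHomLift (𝟙 V) (p.homAt (f ≫ k) hp ≫ inv ((c₀ hX h₀ f).homAt (f ≫ k) rfl)) := by
    have h : 𝒳.p.IsHomLift (𝟙 V ≫ 𝟙 V) (p.homAt (f ≫ k) hp ≫ inv ((c₀ hX h₀ f).homAt (f ≫ k) rfl)) :=
      inferInstance
    rwa [Category.id_comp] at h
  obtain ⟨a, ha⟩ := exists_autAt β hX y₁ (f ≫ k) (p.homAt (f ≫ k) hp ≫ inv ((c₀ hX h₀ f).homAt (f ≫ k) rfl))
  refine ⟨a, IsoPt.eq_of_homAt (g := f ≫ k) rfl hp ?_⟩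
  show autAt β y₁ (f ≫ k) a ≫ _ = _
  rw [ha, Category.assoc, IsIso.inv_hom_id, Category.comp_id]

theorem locPt_inj {V : Over S} (f : V ⟶ T') {a a' : V ⟶ A}
    (h : locPt β hX h₀ f a = locPt β hX h₀ f a') : a = a' := by
  haveI := IsoPt.homAt_lift (c₀ hX h₀ f) (f ≫ k) rfl
  haveI : IsIso ((c₀ hX h₀ f).homAt (f ≫ k) rfl) := FC16.isIso_of_isHomLift hX (𝟙 V) _
  exact autAt_inj β y₁ (f ≫ k) ((cancel_mono ((c₀ hX h₀ f).homAt (f ≫ k) rfl)).1
    (IsoPt.homAt_congr h (g := f ≫ k) rfl rfl))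

end Local

section Sheaf

variable (hX : FibCat.IsFibGrpd 𝒳.p) (z : FibCat.overCat T ⥤ᵇ FibCat.fp (FibCat.toSelf 𝒳) (FibCat.toSelf 𝒳))
  (hp : ∀ ⦃V : Over S⦄ (W : Sieve V), W ∈ AlgSp.J S V → GluesHom W 𝒳)

/-- points of the sheaf of isomorphisms -/
noncomputable def pt {V : Over S} : ((AlgSp.yon S).obj V ⟶ isoSheaf hX z hp) ≃ IsoPt (fstOf z) (sndOf z) V :=
  sect

theorem pt_map {V W : Over S} (j : W ⟶ V) (x : (AlgSp.yon S).obj V ⟶ isoSheaf hX z hp) :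
    pt hX z hp ((AlgSp.yon S).map j ≫ x) = (pt hX z hp x).map hX j := sect_map j x

/-- the projection of the sheaf of isomorphisms to the base -/
noncomputable abbrev isoπ : isoSheaf hX z hp ⟶ (AlgSp.yon S).obj T := spMapOfOver (isoLeg hX z hp)

theorem comp_isoπ {V : Over S} (x : (AlgSp.yon S).obj V ⟶ isoSheaf hX z hp) :
    x ≫ isoπ hX z hp = (AlgSp.yon S).map (pt hX z hp x).g := by
  apply (sect (T := V) (F := (AlgSp.yon S).obj T)).injective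
  rw [sect_comp]
  refine (isoLeg_spMap hX z hp V (pt hX z hp x)).trans ?_
  apply ULift.ext
  exact (Category.id_comp _).symm

include β in
/-- over a cover on which the two objects are isomorphic, the sheaf of isomorphisms is the group -/
theorem exists_isPullback {T' : Over S} (k : T' ⟶ T) (h₀ : (fstOf z).obj (Over.mk k) ⟶ (sndOf z).obj (Over.mk k))
    [lh₀ : 𝒳.p.IsHomLift (𝟙 T') h₀] :
    ∃ t, IsPullback t ((AlgSp.yon S).map (snd A T')) (isoπ hX z hp) ((AlgSp.yon S).map k) := by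
  let F : ∀ V : Over S, ((AlgSp.yon S).obj V ⟶ (AlgSp.yon S).obj (A ⊗ T')) →
      ((AlgSp.yon S).obj V ⟶ isoSheaf hX z hp) := fun V x =>
    (pt hX z hp).symm (locPt β hX h₀ ((AlgSp.yon S).preimage x ≫ snd A T') ((AlgSp.yon S).preimage x ≫ fst A T'))
  have hn : ∀ {V W : Over S} (j : W ⟶ V) (x : (AlgSp.yon S).obj V ⟶ (AlgSp.yon S).obj (A ⊗ T')),
      F W ((AlgSp.yon S).map j ≫ x) = (AlgSp.yon S).map j ≫ F V x := by
    intro V W j x
    apply (pt hX z hp).injective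
    have e : (AlgSp.yon S).preimage ((AlgSp.yon S).map j ≫ x) = j ≫ (AlgSp.yon S).preimage x :=
      (AlgSp.yon S).map_injective (by rw [Functor.map_preimage, Functor.map_comp, Functor.map_preimage])
    rw [pt_map, Equiv.apply_symm_apply, Equiv.apply_symm_apply, locPt_nat, e, Category.assoc, Category.assoc]
  have hF : ∀ {V : Over S} (x : (AlgSp.yon S).obj V ⟶ (AlgSp.yon S).obj (A ⊗ T')),
      pt hX z hp (x ≫ homOfYon F hn) =
        locPt β hX h₀ ((AlgSp.yon S).preimage x ≫ snd A T') ((AlgSp.yon S).preimage x ≫ fst A T') := fun x => by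
    rw [comp_homOfYon, Equiv.apply_symm_apply]
  refine ⟨homOfYon F hn, isPullback_of_yon (hom_ext_yon fun V x => ?_) fun V a b hab => ?_⟩
  · rw [← Category.assoc, comp_isoπ, hF]
    show (AlgSp.yon S).map (((AlgSp.yon S).preimage x ≫ snd A T') ≫ k) = _
    rw [Functor.map_comp, Functor.map_comp, Functor.map_preimage, Category.assoc]
  · obtain ⟨f, rfl⟩ := (AlgSp.yon S).map_surjective b
    have hg : (pt hX z hp a).g = f ≫ k := (AlgSp.yon S).map_injective (by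
      rw [Functor.map_comp, ← hab, comp_isoπ])
    obtain ⟨γ, hγ⟩ := exists_locPt β hX h₀ f (pt hX z hp a) hg
    refine ⟨(AlgSp.yon S).map (lift γ f), ⟨(pt hX z hp).injective ?_, ?_⟩, fun x' hx' => ?_⟩
    · rw [hF, Functor.preimage_map, lift_fst, lift_snd, hγ]
    · rw [← Functor.map_comp, lift_snd]
    · obtain ⟨q, rfl⟩ := (AlgSp.yon S).map_surjective x'
      obtain ⟨h1, h2⟩ := hx'
      congr 1
      have hq2 : q ≫ snd A T' = f := (AlgSp.yon S).map_injective (by rw [Functor.map_comp, h2])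
      refine CartesianMonoidalCategory.hom_ext _ _ ?_ (by rw [lift_snd, hq2])
      rw [lift_fst]
      refine locPt_inj β hX h₀ f ?_
      rw [hγ, ← h1, hF, Functor.preimage_map, hq2]

end Sheaf

/-- two objects of a gerbe are isomorphic on the members of an fppf family -/
theorem exists_iso_family (hX : FibCat.IsFibGrpd 𝒳.p)
    (hloc : Gerb.LocSurjHom (QuotSh.J Scheme.fppfPrecoverage S) (FibCat.toSelf 𝒳))
    (y₁ y₂ : FibCat.overCat T ⥤ᵇ 𝒳) :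
    ∃ (κ : Type u) (Ti : κ → Over S) (f : ∀ i, Ti i ⟶ T),
      (∀ i, Flat (f i).left) ∧ (∀ i, LocallyOfFinitePresentation (f i).left) ∧
      (∀ x : T.left, ∃ i y, (f i).left y = x) ∧
      ∀ i, ∃ h : y₁.obj (Over.mk (f i)) ⟶ y₂.obj (Over.mk (f i)), 𝒳.p.IsHomLift (𝟙 (Ti i)) h := by
  let o : Over T := Over.mk (𝟙 T)
  have e₁ : 𝒳.p.obj (y₁.obj o) = T := y₁.w_obj o
  have e₂ : 𝒳.p.obj (y₂.obj o) = T := y₂.w_obj o
  obtain ⟨R, hR, hR'⟩ := GerbAbs.locSurjHom_at _ hloc (y₁.obj o) (y₂.obj o)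
    (show (FibCat.toSelf 𝒳).obj (y₁.obj o) ⟶ (FibCat.toSelf 𝒳).obj (y₂.obj o) from eqToHom (e₁.trans e₂.symm)) e₁
    (IsHomLift.of_fac' (𝟭 (Over S)) _ _ e₁ e₂ (by simp))
  rw [GrothendieckTopology.mem_over_iff, Precoverage.mem_toGrothendieck_iff_of_isStableUnderComposition] at hR
  obtain ⟨R₀, hR₀, hle⟩ := hR
  obtain ⟨hj, hp⟩ := Quot16.mem_fppf_iff hR₀
  choose Z f hf w hw using hj
  refine ⟨T.left, fun t => Over.mk (f t ≫ T.hom), fun t => Over.homMk (f t), fun t => (hp (hf t)).1,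
    fun t => (hp (hf t)).2, fun t => ⟨t, w t, hw t⟩, fun t => ?_⟩
  let k : Over.mk (f t ≫ T.hom) ⟶ T := Over.homMk (f t)
  obtain ⟨x₀, φ, ψ, hφ, hψ, -⟩ := hR' k ((Sieve.overEquiv_iff _ _).1 (hle _ _ (hf t)))
  haveI := hφ; haveI := hψ
  haveI : 𝒳.p.IsHomLift k (y₁.map (toTerm (Over.mk k))) := map_toTerm_lift y₁ (Over.mk k)
  haveI : 𝒳.p.IsHomLift k (y₂.map (toTerm (Over.mk k))) := map_toTerm_lift y₂ (Over.mk k)
  obtain ⟨i₁, hi₁, -⟩ := exists_iso_of_lifts hX k φ (y₁.map (toTerm (Over.mk k)))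
  obtain ⟨i₂, hi₂, -⟩ := exists_iso_of_lifts hX k ψ (y₂.map (toTerm (Over.mk k)))
  haveI := hi₁; haveI := hi₂
  exact ⟨i₁.inv ≫ i₂.hom, inferInstance⟩

include β in
/-- the diagonal of a banded gerbe has the fppf local properties of the group -/
theorem repWith_diag (h : Gerb.IsGerbe (QuotSh.J Scheme.fppfPrecoverage S) 𝒳)
    {P : MorphismProperty (AlgSp.Sp S)} (hloc : AlgSp.IsLocalOnBase AlgSp.IsFppfCover P)
    (hP : ∀ T' : Over S, P ((AlgSp.yon S).map (snd A T'))) :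
    RepByAlgSpWith P (FibCat.diag (FibCat.toSelf 𝒳)) := by
  have hX : FibCat.IsFibGrpd 𝒳.p := h.1.1
  have hglue : ∀ ⦃V : Over S⦄ (W : Sieve V), W ∈ AlgSp.J S V → GluesHom W 𝒳 := fun V W hW =>
    gluesHom_of_isPrestack (StAlg.isStack_prestack h.1) hW
  intro T z
  obtain ⟨E, hE, hEq⟩ := exists_equiv hX z hglue
  obtain ⟨κ, Ti, f, h1, h2, h3, h4⟩ := exists_iso_family hX h.2.2 (fstOf z) (sndOf z)
  choose h₀ lh₀ using h4
  choose t sq using fun i => exists_isPullback (lh₀ := lh₀ i) β hX z hglue (f i) (h₀ i)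
  have hI : AlgSp.IsAlgSpace (isoSheaf hX z hglue) := isAlgSpace_of_family (isoπ hX z hglue) f h1 h2 h3 fun i =>
    (AlgSp.IsAlgSpace.yon_obj _).of_iso (sq i).isoPullback
  refine ⟨⟨isoSheaf hX z hglue, hI⟩, E, hE, ?_⟩
  rw [hEq]
  exact (hloc (fun i => (AlgSp.yon S).obj (Ti i)) (fun i => (AlgSp.yon S).map (f i))
    (AlgSp.IsAlgSpace.yon_obj _) (fun i => AlgSp.IsAlgSpace.yon_obj _)
    (isFppfCover_of_family f h1 h2 h3) (isoπ hX z hglue) hI _ _ t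
    (fun i => AlgSp.IsAlgSpace.yon_obj _) sq).2 fun i => hP (Ti i)

end Groth.Agent.GerbBand16
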