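import Groth.Agent.Lib.FC16.Descent
import Groth.Agent.Lib.FC16.Yoneda
import Groth.Agent.Lib.GerbAbs16.Glue
import Groth.Agent.Lib.StAlg.Stack
import Mathlib.AlgebraicGeometry.Limits
import Groth.Prelude.Def_QuotSh

/-!
# Objects of an fppf stack over a disjoint union
-/

universe u

open CategoryTheory CategoryTheory.Functor CategoryTheory.Limits AlgebraicGeometry Opposite

set_option linter.style.haveILetI false
set_option backward.isDefEq.respectTransparency false
set_option backward.isDefEq.respectTransparency.types false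

namespace Groth.Agent.GerbBand16

open Groth.Agent.FC16

variable {S : Scheme.{u}} {𝒳 : AlgSt.Cat S}

theorem bot_mem_fppf {W : Over S} [IsEmpty ↥W.left] :
    (⊥ : Sieve W) ∈ QuotSh.J Scheme.fppfPrecoverage S W := by
  rw [GrothendieckTopology.mem_over_iff]
  refine GrothendieckTopology.superset_covering _ ?_
    (Precoverage.generate_mem_toGrothendieck (R := Presieve.ofArrows (fun x : PEmpty.{u + 1} => x.elim)
      (fun x : PEmpty.{u + 1} => x.elim)) ?_)
  · rw [Sieve.generate_le_iff]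
    rintro _ _ ⟨i⟩
    exact i.elim
  · rw [Scheme.fppfPrecoverage, Scheme.ofArrows_mem_precoverage_iff]
    exact ⟨fun x => isEmptyElim (α := ↥W.left) x, fun i => i.elim⟩

variable (h : Stk.IsStack (QuotSh.J Scheme.fppfPrecoverage S) 𝒳)

include h in
/-- over the empty scheme all lifts of a morphism exist -/
theorem exists_lift_of_isEmpty {V W : Over S} [IsEmpty ↥V.left] (f : V ⟶ W) {a b : 𝒳.obj} (ha : 𝒳.p.obj a = V)
    (hb : 𝒳.p.obj b = W) : ∃ φ : a ⟶ b, 𝒳.p.IsHomLift f φ := by
  obtain ⟨b', ψ, hψ⟩ := FC16.exists_lift h.1 (x := b) hb f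
  haveI := hψ
  have hb' : 𝒳.p.obj b' = V := IsHomLift.domain_eq 𝒳.p f ψ
  obtain ⟨μ, hμ, -⟩ := GerbAbs.exists_glue (StAlg.isStack_prestack h) (bot_mem_fppf (W := V)) (x := a) (y := b') ha hb'
    (fun _ _ hh => (hh : False).elim) (fun _ _ hh => (hh : False).elim)
    (fun _ _ _ _ hh => (hh : False).elim)
  haveI := hμ
  have h' : 𝒳.p.IsHomLift (𝟙 V ≫ f) (μ ≫ ψ) := inferInstance
  rw [Category.id_comp] at h'
  exact ⟨μ ≫ ψ, h'⟩

include h in
/-- over the empty scheme lifts are unique -/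
theorem hom_ext_of_isEmpty {V W : Over S} [IsEmpty ↥V.left] (f : V ⟶ W) {a b : 𝒳.obj} (φ ψ : a ⟶ b)
    [hφ : 𝒳.p.IsHomLift f φ] [hψ : 𝒳.p.IsHomLift f ψ] : φ = ψ := by
  have ha : 𝒳.p.obj a = V := IsHomLift.domain_eq 𝒳.p f φ
  subst ha
  haveI := (h.2 _ (bot_mem_fppf (W := 𝒳.p.obj a))).faithful
  exact hom_ext_of_cover h.1 (⊥ : Sieve (𝒳.p.obj a)) (f := f) φ ψ fun _ _ hh => (hh : False).elim

include h in
/-- objects over the members of a family give an object over their disjoint union -/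
theorem exists_sigma {ι : Type u} {Z : Over S} (T : ι → Over S) (inc : ∀ i, T i ⟶ Z)
    (hmono : ∀ i, Mono (inc i))
    (hdisj : ∀ {i j : ι}, i ≠ j → ∀ {V : Over S} (a : V ⟶ T i) (b : V ⟶ T j), a ≫ inc i = b ≫ inc j →
      IsEmpty ↥V.left)
    (hmem : Sieve.generate (Presieve.ofArrows T inc) ∈ QuotSh.J Scheme.fppfPrecoverage S Z)
    (y : ∀ i, FibCat.overCat (T i) ⥤ᵇ 𝒳) : Nonempty (FibCat.overCat Z ⥤ᵇ 𝒳) := by
  let R := Sieve.generate (Presieve.ofArrows T inc)
  have hc : ∀ c : (Stk.sieveCat R).obj, ∃ (i : ι) (v : c.obj.left ⟶ T i), v ≫ inc i = c.obj.hom := by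
    intro c
    obtain ⟨Y, v, g, ⟨i⟩, hvg⟩ := c.property
    exact ⟨i, v, hvg⟩
  choose idx v hv using hc
  let o : (Stk.sieveCat R).obj → 𝒳.obj := fun c => (y (idx c)).obj (Over.mk (v c))
  have ho : ∀ c, 𝒳.p.obj (o c) = c.obj.left := fun c => (y (idx c)).w_obj _
  let va : ∀ (c : (Stk.sieveCat R).obj) (i : ι), idx c = i → (c.obj.left ⟶ T i) := fun c i e =>
    v c ≫ eqToHom (congrArg T e)
  have hva : ∀ c i e, va c i e ≫ inc i = c.obj.hom := fun c i e => by
    subst e
    simp [va, hv]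
  have hto : ∀ c i (e : idx c = i), o c = (y i).obj (Over.mk (va c i e)) := fun c i e => by
    subst e
    simp [o, va]
  let P : ∀ {a b : (Stk.sieveCat R).obj}, (a ⟶ b) → (o a ⟶ o b) → Prop := fun {a b} m φ =>
    𝒳.p.IsHomLift m.hom.left φ ∧ ∀ (i : ι) (ea : idx a = i) (eb : idx b = i)
      (μ : Over.mk (va a i ea) ⟶ Over.mk (va b i eb)), μ.left = m.hom.left →
        φ ≫ eqToHom (hto b i eb) = eqToHom (hto a i ea) ≫ (y i).map μ
  have hemp : ∀ {a b : (Stk.sieveCat R).obj} (m : a ⟶ b), idx a ≠ idx b → IsEmpty ↥a.obj.left.left :=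
    fun {a b} m ne => hdisj ne (v a) (m.hom.left ≫ v b) (by rw [hv, Category.assoc, hv, Over.w m.hom])
  have hμ : ∀ {a b : (Stk.sieveCat R).obj} (m : a ⟶ b) (i : ι) (ea : idx a = i) (eb : idx b = i),
      ∃ μ : Over.mk (va a i ea) ⟶ Over.mk (va b i eb), μ.left = m.hom.left := fun {a b} m i ea eb =>
    ⟨Over.homMk m.hom.left (by
      haveI := hmono i
      show m.hom.left ≫ va b i eb = va a i ea
      rw [← cancel_mono (inc i), Category.assoc, hva b i eb, hva a i ea, Over.w m.hom]), rfl⟩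
  have hlift : ∀ {a b : (Stk.sieveCat R).obj} (m : a ⟶ b) (i : ι) (ea : idx a = i) (eb : idx b = i)
      (μ : Over.mk (va a i ea) ⟶ Over.mk (va b i eb)), μ.left = m.hom.left →
      𝒳.p.IsHomLift m.hom.left (eqToHom (hto a i ea) ≫ (y i).map μ) := fun {a b} m i ea eb μ hμe => by
    haveI : 𝒳.p.IsHomLift m.hom.left ((y i).map μ) := hμe ▸ map_over_lift (y i) μ
    infer_instance
  have hu : ∀ {a b : (Stk.sieveCat R).obj} (m : a ⟶ b), ∃! φ : o a ⟶ o b, P m φ := by
    intro a b m
    by_cases he : idx a = idx b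
    · obtain ⟨μ₀, hμ₀⟩ := hμ m (idx b) he rfl
      refine ⟨eqToHom (hto a _ he) ≫ (y (idx b)).map μ₀ ≫ eqToHom (hto b _ rfl).symm, ⟨?_, ?_⟩, ?_⟩
      · haveI := hlift m _ he rfl μ₀ hμ₀
        rw [← Category.assoc]
        infer_instance
      · intro i ea eb μ hμe
        subst eb
        obtain rfl : μ = μ₀ := Over.OverMorphism.ext (hμe.trans hμ₀.symm)
        simp
      · intro φ hφ
        have := hφ.2 _ he rfl μ₀ hμ₀
        rw [← Category.assoc, ← this]
        simp
    · haveI := hemp m he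
      obtain ⟨φ, hφ⟩ := exists_lift_of_isEmpty h m.hom.left (ho a) (ho b)
      exact ⟨φ, ⟨hφ, fun i ea eb => absurd (ea.trans eb.symm) he⟩, fun φ' hφ' =>
        hom_ext_of_isEmpty h m.hom.left φ' φ (hφ := hφ'.1)⟩
  choose M hM hMu using @hu
  let F : Stk.sieveCat R ⥤ᵇ 𝒳 :=
    { toFunctor :=
        { obj := o
          map := fun {a b} m => M m
          map_id := fun a => (hMu (𝟙 a) (𝟙 (o a)) ⟨IsHomLift.id (ho a), fun i ea eb μ hμe => by
            obtain rfl : μ = 𝟙 _ := Over.OverMorphism.ext hμe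
            rw [(y i).toFunctor.map_id]
            simp⟩).symm
          map_comp := fun {a b c} m m' => (hMu (m ≫ m') (M m ≫ M m') ⟨by
              haveI := (hM m).1
              haveI := (hM m').1
              exact (inferInstance : 𝒳.p.IsHomLift (m.hom.left ≫ m'.hom.left) (M m ≫ M m')), fun i ea ec μ hμe => by
              by_cases eb : idx b = i
              · obtain ⟨μ₁, hμ₁⟩ := hμ m i ea eb
                obtain ⟨μ₂, hμ₂⟩ := hμ m' i eb ec
                obtain rfl : μ = μ₁ ≫ μ₂ := Over.OverMorphism.ext (hμe.trans (by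
                  show m.hom.left ≫ m'.hom.left = μ₁.left ≫ μ₂.left
                  rw [hμ₁, hμ₂]))
                rw [Category.assoc, (hM m').2 i eb ec μ₂ hμ₂, ← Category.assoc, (hM m).2 i ea eb μ₁ hμ₁,
                  Category.assoc, ← (y i).toFunctor.map_comp]
              · haveI := hemp m (fun e => eb (e.symm.trans ea))
                haveI := hlift (m ≫ m') i ea ec μ hμe
                haveI := (hM m).1
                haveI := (hM m').1
                haveI : 𝒳.p.IsHomLift (m ≫ m').hom.left (M m ≫ M m') :=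
                  (inferInstance : 𝒳.p.IsHomLift (m.hom.left ≫ m'.hom.left) (M m ≫ M m'))
                haveI : 𝒳.p.IsHomLift (m ≫ m').hom.left ((M m ≫ M m') ≫ eqToHom (hto c i ec)) := inferInstance
                exact hom_ext_of_isEmpty h (m ≫ m').hom.left _ _⟩).symm }
      w := CategoryTheory.Functor.ext ho fun a b m => by
        haveI := (hM m).1
        exact IsHomLift.fac' 𝒳.p m.hom.left (M m) }
  haveI : (Stk.resSieve R 𝒳).IsEquivalence := h.2 R hmem
  exact ⟨(Stk.resSieve R 𝒳).objPreimage F⟩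

end Groth.Agent.GerbBand16
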