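import Groth.Agent.Lib.GerbBand16.Isom
import Groth.Agent.Lib.GerbBand16.Sigma
import Groth.Agent.Lib.Bootst16.Main
import Groth.Agent.Lib.Bootst16.BGSmooth
import Groth.Agent.Lib.QdmSlice16.Cover
import Groth.Agent.Lib.GerbAbs16.GoodQInst
import Groth.Agent.Lib.AlgSpDescent.RepBase
import Groth.Agent.Lib.AlgSpDescent.FpqcTop

/-!
# Banded gerbes are algebraic stacks
-/

universe u

open CategoryTheory CategoryTheory.Functor CategoryTheory.Limits AlgebraicGeometry Opposite MonoidalCategory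

set_option linter.style.haveILetI false
set_option linter.unusedSectionVars false
set_option backward.isDefEq.respectTransparency false
set_option backward.isDefEq.respectTransparency.types false

namespace Groth.Agent.GerbBand16

open Groth.Agent.FC16 hiding overMap
open Groth.Agent.StAlg Groth.Agent.StAlg16 AlgSt
open Groth.Agent.Bootst16 (selfPt baseSelf baseSelf_isEquivOver isoToSelf)

variable {S : Scheme.{u}} {P : MorphismProperty (AlgSp.Sp S)}

theorem repOf_of_with {𝒲 : AlgSt.Cat S} {U : Over S} {π : 𝒲 ⥤ᵇ FibCat.overCat U}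
    (h : AlgSt.RepByAlgSpWith P π) : RepOf P π :=
  repOf_of_equiv (QdmSlice16.fpSnd_id_isEquivOver π) (FibCat.fpIso (BasedFunctor.id _) π).symm (h U (BasedFunctor.id _))

/-- a morphism from a scheme has the properties common to the diagonal and the structure morphism -/
theorem with_of_diag (hP : GoodP P) {𝒳 : AlgSt.Cat S} (hX : FibCat.IsFibGrpd 𝒳.p)
    (hΔ : AlgSt.RepByAlgSpWith P (FibCat.diag (FibCat.toSelf 𝒳))) {U : Over S} (x : FibCat.overCat U ⥤ᵇ 𝒳)
    (hU : AlgSt.RepByAlgSpWith P (FibCat.toSelf (FibCat.overCat U))) : AlgSt.RepByAlgSpWith P x := by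
  intro T y
  let ea : BasedFunctor.comp y (FibCat.toSelf 𝒳) ≅ FibCat.toSelf (FibCat.overCat T) :=
    eqToIso (selfOver_functor_eq _ _)
  let eb : BasedFunctor.comp x (FibCat.toSelf 𝒳) ≅ FibCat.toSelf (FibCat.overCat U) :=
    eqToIso (selfOver_functor_eq _ _)
  have hS : FibCat.IsFibGrpd (FibCat.selfOver (Over S)).p := isFibGrpd_of_rep rep_selfOver
  have hprod := fp_isFibGrpd (overCat_isFibGrpd T) (overCat_isFibGrpd U) hS
    (FibCat.toSelf (FibCat.overCat T)) (FibCat.toSelf (FibCat.overCat U))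
  have hXX := fp_isFibGrpd hX hX hS (FibCat.toSelf 𝒳) (FibCat.toSelf 𝒳)
  have h := with_comp hP (fp_isFibGrpd hprod hX hXX (pair ea eb) (FibCat.diag (FibCat.toSelf 𝒳))) hprod
    (with_fpFst (pair ea eb) hΔ) (with_fpFst (FibCat.toSelf (FibCat.overCat T)) hU)
  exact repOf_of_equiv (diagFun_isEquivOver ea eb) (Iso.refl _) (repOf_of_with h)

theorem with_toSelf_of_overMap {U : Over S}
    (h : AlgSt.RepByAlgSpWith P (AlgSt.overMap (Over.homMk U.hom (Category.comp_id _) : U ⟶ selfPt S))) :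
    AlgSt.RepByAlgSpWith P (FibCat.toSelf (FibCat.overCat U)) :=
  (with_congr (f := FibCat.toSelf (FibCat.overCat U))
    (f' := AlgSt.overMap (Over.homMk U.hom (Category.comp_id _) : U ⟶ selfPt S))
    (a := BasedFunctor.id _) (b := baseSelf S) isEquivOver_id (baseSelf_isEquivOver S) (isoToSelf _ _)).2 h

/-- a gerbe has an object over an fppf cover of the base -/
theorem exists_object {𝒳 : AlgSt.Cat S} (h : Gerb.IsGerbe (QuotSh.J Scheme.fppfPrecoverage S) 𝒳) :
    ∃ (T : Over S) (_ : FibCat.overCat T ⥤ᵇ 𝒳), Flat T.hom ∧ LocallyOfFinitePresentation T.hom ∧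
      Surjective T.hom := by
  obtain ⟨R, hR, hR'⟩ := GerbAbs.locSurjObj_at _ h.2.1
    (show (FibCat.selfOver (Over S)).obj from selfPt S) (U := selfPt S) rfl
  rw [GrothendieckTopology.mem_over_iff, Precoverage.mem_toGrothendieck_iff_of_isStableUnderComposition] at hR
  obtain ⟨R₀, hR₀, hle⟩ := hR
  obtain ⟨hj, hp⟩ := Quot16.mem_fppf_iff hR₀
  choose Y f hf w hw using hj
  haveI := isFibered h.1.1
  have hy : ∀ t : (selfPt S).left, Nonempty (FibCat.overCat (Over.mk (f t) : Over S) ⥤ᵇ 𝒳) := fun t => by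
    let k : Over.mk (f t ≫ 𝟙 S) ⟶ selfPt S := Over.homMk (f t)
    obtain ⟨x₀, g, hg⟩ := hR' k ((Sieve.overEquiv_iff _ _).1 (hle _ _ (hf t)))
    haveI := hg
    have e : 𝒳.p.obj x₀ = Over.mk (f t) := ((GerbAbs.domEq hg).trans
      (congrArg Over.mk (Category.comp_id (f t))))
    exact ⟨ofObj e⟩
  let y := fun t => (hy t).some
  let d : (∐ fun t : (selfPt S).left => Y t) ⟶ S := Sigma.desc f
  let T : Over S := Over.mk d
  let inc : ∀ t, (Over.mk (f t) : Over S) ⟶ T := fun t =>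
    Over.homMk (Sigma.ι (fun t => Y t) t) (Sigma.ι_desc _ _)
  obtain ⟨x⟩ := exists_sigma h.1 (Z := T) (fun t => (Over.mk (f t) : Over S)) inc
    (fun t => by
      haveI : Mono (inc t).left := inferInstanceAs (Mono (Sigma.ι (fun t => Y t) t))
      exact Over.mono_of_mono_left (inc t))
    (fun {i j} ne {V} a b e => ⟨fun v => by
      have e' : (inc i).left (a.left v) = (inc j).left (b.left v) := by
        rw [← Scheme.Hom.comp_apply, ← Over.comp_left, e, Over.comp_left, Scheme.Hom.comp_apply]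
      exact (disjoint_opensRange_sigmaι (fun t => Y t) i j ne).le_bot
        ⟨⟨_, e'⟩, ⟨_, rfl⟩⟩⟩)
    (by
      rw [GrothendieckTopology.mem_over_iff]
      refine GrothendieckTopology.superset_covering _ ?_
        (Precoverage.generate_mem_toGrothendieck (R := Presieve.ofArrows (fun t => Y t) (Sigma.ι fun t => Y t)) ?_)
      · rw [Sieve.generate_le_iff]
        rintro _ _ ⟨t⟩
        refine (Sieve.overEquiv_iff _ _).2 ⟨Over.mk (f t), Over.homMk (𝟙 _) (by show 𝟙 _ ≫ f t = Sigma.ι _ t ≫ Sigma.desc f; erw [Sigma.ι_desc, Category.id_comp]), inc t,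
          ⟨t⟩, Over.OverMorphism.ext (Category.id_comp _)⟩
      · rw [Scheme.fppfPrecoverage, Scheme.ofArrows_mem_precoverage_iff]
        exact ⟨fun z => (sigmaOpenCover fun t => Y t).exists_eq z, fun t => ⟨inferInstance, inferInstance⟩⟩)
    y
  refine ⟨T, x, ?_, ?_, ⟨fun s => ?_⟩⟩
  · exact IsZariskiLocalAtSource.sigmaDesc fun t => (hp (hf t)).1
  · exact IsZariskiLocalAtSource.sigmaDesc fun t => (hp (hf t)).2
  · refine ⟨Sigma.ι (fun t => Y t) s (w s), ?_⟩
    show d (Sigma.ι (fun t => Y t) s (w s)) = s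
    rw [← Scheme.Hom.comp_apply, Sigma.ι_desc]
    exact hw s

theorem isLocalOnBase_inf {P Q : MorphismProperty (AlgSp.Sp S)} {τ : AlgSp.CovNotion S}
    (hP : AlgSp.IsLocalOnBase τ P) (hQ : AlgSp.IsLocalOnBase τ Q) : AlgSp.IsLocalOnBase τ (P ⊓ Q) :=
  fun _ _ Yi g hY hYi hg _ f hX Xi p q hXi sq =>
    ⟨fun h i => ⟨(hP Yi g hY hYi hg f hX Xi p q hXi sq).1 h.1 i, (hQ Yi g hY hYi hg f hX Xi p q hXi sq).1 h.2 i⟩,
      fun h => ⟨(hP Yi g hY hYi hg f hX Xi p q hXi sq).2 fun i => (h i).1,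
        (hQ Yi g hY hYi hg f hX Xi p q hXi sq).2 fun i => (h i).2⟩⟩

section

variable (A : Over S) [GrpObj A] {𝒳 : AlgSt.Cat S}

open CartesianMonoidalCategory in
theorem main [Flat A.hom] [Surjective A.hom] [LocallyOfFinitePresentation A.hom]
    [QuasiCompact A.hom] [IsSeparated A.hom]
    (h𝒳 : Gerb.IsGerbe (QuotSh.J Scheme.fppfPrecoverage S) 𝒳) (β : Gerb.Banding 𝒳 (yonedaGrpObj A)) :
    AlgSt.IsAlgStack Scheme.fppfPrecoverage 𝒳 ∧
      AlgSt.RepByAlgSpWith (AlgSp.IsQuasiCompactMor ⊓ AlgSp.IsSeparatedMor) (FibCat.diag (FibCat.toSelf 𝒳)) ∧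
      AlgSt.LocQ (AlgSp.LocP @LocallyOfFinitePresentation) (FibCat.toSelf 𝒳) := by
  have hX : FibCat.IsFibGrpd 𝒳.p := h𝒳.1.1
  haveI i1 : ∀ T' : Over S, Flat (snd A T').left := fun T' =>
    inferInstanceAs (Flat (pullback.snd A.hom T'.hom))
  haveI i2 : ∀ T' : Over S, Surjective (snd A T').left := fun T' =>
    inferInstanceAs (Surjective (pullback.snd A.hom T'.hom))
  haveI i3 : ∀ T' : Over S, LocallyOfFinitePresentation (snd A T').left := fun T' =>
    inferInstanceAs (LocallyOfFinitePresentation (pullback.snd A.hom T'.hom))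
  haveI i4 : ∀ T' : Over S, QuasiCompact (snd A T').left := fun T' =>
    inferInstanceAs (QuasiCompact (pullback.snd A.hom T'.hom))
  haveI i5 : ∀ T' : Over S, IsSeparated (snd A T').left := fun T' =>
    inferInstanceAs (IsSeparated (pullback.snd A.hom T'.hom))
  have hY : ∀ V : Over S, AlgSp.IsAlgSpace ((AlgSp.yon S).obj V) := AlgSp.IsAlgSpace.yon_obj
  have d1 : AlgSt.RepByAlgSpWith (AlgSp.LocP @Flat) (FibCat.diag (FibCat.toSelf 𝒳)) :=
    repWith_diag β h𝒳 isLocalOnBase_fppf_locP_flat fun T' => (locP_yon_iff _).2 (i1 T')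
  have d2 : AlgSt.RepByAlgSpWith (AlgSp.LocP @LocallyOfFinitePresentation) (FibCat.diag (FibCat.toSelf 𝒳)) :=
    repWith_diag β h𝒳 isLocalOnBase_fppf_locP_lfp fun T' => (locP_yon_iff _).2 (i3 T')
  have d3 : AlgSt.RepByAlgSpWith AlgSp.IsSurjectiveMor (FibCat.diag (FibCat.toSelf 𝒳)) :=
    repWith_diag β h𝒳 GerbAbs.Chart.isLocalOnBase_fppf_surjective fun T' =>
      AlgSpace.surjective_map_of_repWith ((AlgSp.repWith_yon_map_iff @Surjective _).2 (i2 T'))
  obtain ⟨T, x, hf, hl, hs⟩ := exists_object h𝒳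
  let k : T ⟶ selfPt S := Over.homMk T.hom (Category.comp_id _)
  have x1 : AlgSt.RepByAlgSpWith (AlgSp.LocP @Flat) x := with_of_diag goodP_locP hX d1 x
    (with_toSelf_of_overMap (with_locP_overMap k hf))
  have x2 : AlgSt.RepByAlgSpWith (AlgSp.LocP @LocallyOfFinitePresentation) x := with_of_diag goodP_locP hX d2 x
    (with_toSelf_of_overMap (with_locP_overMap k hl))
  have x3 : AlgSt.RepByAlgSpWith AlgSp.IsSurjectiveMor x := with_of_diag goodP_surjective hX d3 x
    (with_toSelf_of_overMap (GerbAbs.Chart.with_surjective_overMap k hs))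
  have hA : IsAlgStack Scheme.fppfPrecoverage 𝒳 := Bootst16.isAlgStack_of_fppf_cover h𝒳.1 x x1 x2 x3
  refine ⟨hA, repWith_diag β h𝒳
    (isLocalOnBase_inf (isLocalOnBase_fppf_of_fpqc AlgSpDescent.isLocalOnBase_fpqc_isQuasiCompactMor)
      (isLocalOnBase_fppf_of_fpqc AlgSpDescent.isLocalOnBase_fpqc_isSeparatedMor))
    (fun T' => ⟨?_, ?_⟩), ?_⟩
  · have h := (AlgSp.repWith_yon_map_iff @QuasiCompact (snd A T')).2 (i4 T')
    exact (AlgSpace.repWith_quasiCompact_iff (hY _) (hY _) h.1).1 h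
  · exact (AlgSp.repWith_diagonal_yon_map_iff @IsClosedImmersion (snd A T')).2
      ((i5 T').isClosedImmersion_diagonal)
  obtain ⟨U, c, hc, hcs⟩ := hA.atlas
  obtain ⟨W, w, hw, hws⟩ := (isDM_of_rep (repByAlgSp1_of_with x1 U c)).1.atlas
  have hfp := fp_isFibGrpd (overCat_isFibGrpd U) (overCat_isFibGrpd T) hX c x
  obtain ⟨b, ⟨jb⟩⟩ := exists_overMap_iso (BasedFunctor.comp w (FibCat.fpFst c x))
  obtain ⟨b₂, ⟨jb₂⟩⟩ := exists_overMap_iso (BasedFunctor.comp w (FibCat.fpSnd c x))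
  haveI : Flat b.left := of_with_locP_overMap b (with_of_iso jb
    (with_comp goodP_locP (overCat_isFibGrpd W) hfp (with_locP_mono smooth_le_flat hw) (with_fpFst c x1)))
  haveI : LocallyOfFinitePresentation b.left := of_with_locP_overMap b (with_of_iso jb
    (with_comp goodP_locP (overCat_isFibGrpd W) hfp (with_locP_mono smooth_le_lfp hw) (with_fpFst c x2)))
  haveI : Surjective b.left := Bootst16.surjective_of_with_overMap b (with_of_iso jb
    (with_comp goodP_surjective (overCat_isFibGrpd W) hfp hws (with_fpFst c x3)))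
  haveI : Smooth b₂.left := of_with_locP_overMap b₂ (with_of_iso jb₂
    (with_comp goodP_locP (overCat_isFibGrpd W) hfp hw (with_fpSnd x hc)))
  haveI := hl
  haveI : LocallyOfFinitePresentation (b.left ≫ U.hom) := by
    rw [Over.w b, ← Over.w b₂]
    infer_instance
  have hU : LocallyOfFinitePresentation U.hom :=
    FppfSource.locallyOfFinitePresentation_of_fppf_comp b.left U.hom
  let kU : U ⟶ selfPt S := Over.homMk U.hom (Category.comp_id _)
  refine ⟨U, selfPt S, c, baseSelf S, kU, isoToSelf _ _, hc, hcs, ?_, (locP_yon_iff kU).2 hU⟩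
  haveI : Smooth (𝟙 (selfPt S) : selfPt S ⟶ selfPt S).left := inferInstanceAs (Smooth (𝟙 S))
  exact (with_congr (f := baseSelf S) (f' := AlgSt.overMap (𝟙 (selfPt S))) (a := BasedFunctor.id _) (b := baseSelf S)
    isEquivOver_id (baseSelf_isEquivOver S) (isoToSelf _ _)).2 (with_locP_overMap (P := @Smooth) (𝟙 (selfPt S)) ‹_›)

end

end Groth.Agent.GerbBand16
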