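import Groth.Agent.Lib.SpQuot16.Chart
import Groth.Agent.Lib.SpQuot16.Stack
import Groth.Agent.Lib.GerbAbs16.Glue
import Groth.Agent.Lib.StAlg16.Cover

/-! The sheaf of vertical isomorphisms between two families of objects of a prestack, and the diagonal
(the universe of `AlgSt.Cat` variant of `SpQuot16/Isom`). -/

universe u

open CategoryTheory CategoryTheory.Limits AlgebraicGeometry

set_option linter.style.haveILetI false
set_option linter.unusedSectionVars false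
set_option linter.unusedSimpArgs false
set_option backward.isDefEq.respectTransparency false
set_option backward.isDefEq.respectTransparency.types false
set_option maxHeartbeats 1000000

namespace Groth.Agent.GerbBand16

open AlgSt Groth.Agent.SpQuot16
open FC16 hiding overMap
open Groth.Agent.Quot16 (Cocone GluesHom resCocone)
open Groth.Agent.AlgSpace (sect hom_ext_yon)
open Opposite

variable {S : Scheme.{u}}

/-- morphisms glue along covering sieves in a prestack -/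
theorem gluesHom_of_isPrestack {C : Type*} [Category C] {J : GrothendieckTopology C} {𝒳 : BasedCategory C}
    (h : Stk.IsPrestack J 𝒳) {U : C} {R : Sieve U} (hR : R ∈ J U) : GluesHom R 𝒳 := by
  intro t s s'
  have hq : ∀ (w : 𝒳.obj) (π : w ⟶ s.pt) (hπ : R (𝒳.p.map π ≫ eqToHom s.over)),
      ∃ m : w ⟶ s'.pt, ∀ (c : (Stk.sieveCat R).obj) (e : t.obj c ⟶ w), e ≫ π = s.θ c → e ≫ m = s'.θ c := by
    intro w π hπ
    let f := 𝒳.p.map π ≫ eqToHom s.over
    let c₀ : (Stk.sieveCat R).obj := ⟨Over.mk f, hπ⟩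
    haveI : 𝒳.p.IsHomLift f π := IsHomLift.of_fac' 𝒳.p _ _ rfl s.over (by simp [f])
    haveI : 𝒳.p.IsHomLift f (s.θ c₀) := s.lift c₀
    obtain ⟨i, hi, hiπ⟩ := exists_iso_of_lifts h.1 f π (s.θ c₀)
    refine ⟨i.hom ≫ s'.θ c₀, fun c e he => ?_⟩
    haveI hc : 𝒳.p.IsHomLift c.obj.hom (e ≫ π) := he.symm ▸ s.lift c
    haveI := hi
    have hpt : 𝒳.p.obj (t.obj c) = c.obj.left := t.w_obj c
    let g : c.obj.left ⟶ 𝒳.p.obj w := eqToHom hpt.symm ≫ 𝒳.p.map e
    have hg : g ≫ f = c.obj.hom := by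
      show (eqToHom hpt.symm ≫ 𝒳.p.map e) ≫ 𝒳.p.map π ≫ eqToHom s.over = _
      rw [Category.assoc, ← Functor.map_comp_assoc, IsHomLift.fac' 𝒳.p c.obj.hom (e ≫ π)]
      simp
    let μ : c ⟶ c₀ := ObjectProperty.homMk (Over.homMk g hg)
    have hμ : t.map μ ≫ s.θ c₀ = e ≫ π := (s.nat μ).trans he.symm
    have key : e ≫ i.hom = t.map μ := by
      haveI := FC16.isStronglyCartesian h.1 f (s.θ c₀)
      haveI : 𝒳.p.IsHomLift g e := IsHomLift.of_fac' 𝒳.p _ _ hpt rfl (by simp [g])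
      haveI : 𝒳.p.IsHomLift g (e ≫ i.hom) := by
        have hh : 𝒳.p.IsHomLift (g ≫ 𝟙 _) (e ≫ i.hom) := inferInstance
        rwa [Category.comp_id] at hh
      haveI : 𝒳.p.IsHomLift g (t.map μ) :=
        haveI : (Stk.sieveCat R).p.IsHomLift g μ := IsHomLift.map (Stk.sieveCat R).p μ
        BasedFunctor.preserves_isHomLift t g μ
      apply Functor.IsStronglyCartesian.ext 𝒳.p f (s.θ c₀) g
      rw [Category.assoc, hiπ, hμ]
    rw [← Category.assoc, key, s'.nat]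
  choose m hm using hq
  have hsrc : ∀ (w : 𝒳.obj) (π : w ⟶ s.pt) (hπ : R (𝒳.p.map π ≫ eqToHom s.over)),
      ∃ (c : (Stk.sieveCat R).obj) (e : t.obj c ⟶ w), IsIso e ∧ e ≫ π = s.θ c := by
    intro w π hπ
    let f := 𝒳.p.map π ≫ eqToHom s.over
    let c₀ : (Stk.sieveCat R).obj := ⟨Over.mk f, hπ⟩
    haveI : 𝒳.p.IsHomLift f π := IsHomLift.of_fac' 𝒳.p _ _ rfl s.over (by simp [f])
    haveI : 𝒳.p.IsHomLift f (s.θ c₀) := s.lift c₀
    obtain ⟨i, hi, hiπ⟩ := exists_iso_of_lifts h.1 f π (s.θ c₀)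
    haveI := hi
    exact ⟨c₀, i.inv, inferInstance, by rw [Iso.inv_comp_eq, hiπ]⟩
  obtain ⟨χ, hχ, hχ'⟩ := GerbAbs.exists_glue h hR (x := s.pt) (y := s'.pt) s.over s'.over m
    (fun w π hπ => by
      obtain ⟨c, e, hiso, he⟩ := hsrc w π hπ
      haveI := s'.lift c
      haveI := s.lift c
      rw [show m w π hπ = inv e ≫ s'.θ c by rw [IsIso.eq_inv_comp, hm w π hπ c e he]]
      rw [Functor.map_comp, Functor.map_inv, IsIso.inv_comp_eq, ← cancel_mono (eqToHom s'.over)]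
      have h1 : 𝒳.p.map (s'.θ c) ≫ eqToHom s'.over = eqToHom (t.w_obj c) ≫ c.obj.hom := by
        rw [IsHomLift.fac' 𝒳.p c.obj.hom (s'.θ c)]; simp
      have h2 : 𝒳.p.map (s.θ c) ≫ eqToHom s.over = eqToHom (t.w_obj c) ≫ c.obj.hom := by
        rw [IsHomLift.fac' 𝒳.p c.obj.hom (s.θ c)]; simp
      rw [← he, Functor.map_comp, Category.assoc] at h2
      rw [h1, ← h2]
      simp)
    (fun w' w k π hπ hπ' => by
      obtain ⟨c, e, hiso, he⟩ := hsrc w' (k ≫ π) hπ'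
      rw [← cancel_epi e, hm w' (k ≫ π) hπ' c e he, ← Category.assoc, hm w π hπ c (e ≫ k) (by rw [Category.assoc, he])])
  have hθ : ∀ c, R (𝒳.p.map (s.θ c) ≫ eqToHom s.over) := fun c => by
    haveI := s.lift c
    rw [IsHomLift.fac' 𝒳.p c.obj.hom (s.θ c)]
    simpa using R.downward_closed c.property (eqToHom (t.w_obj c))
  refine ⟨χ, ⟨hχ, fun c => ?_⟩, fun χ' hχ'' => ?_⟩
  · rw [hχ' _ _ (hθ c)]
    simpa using hm _ (s.θ c) (hθ c) c (𝟙 _) (Category.id_comp _)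
  · haveI := hχ''.1
    haveI := hχ
    refine StAlg16.hom_ext_of_cover h hR χ' χ fun w π V g hg hπ => ?_
    haveI := hπ
    have hπR : R (𝒳.p.map π ≫ eqToHom s.over) := by
      rw [IsHomLift.fac' 𝒳.p g π]
      simpa using R.downward_closed hg (eqToHom (IsHomLift.domain_eq 𝒳.p g π))
    obtain ⟨c, e, hiso, he⟩ := hsrc w π hπR
    rw [hχ' w π hπR, ← cancel_epi e, hm w π hπR c e he, ← Category.assoc, he, hχ''.2 c]

variable {𝒳 : AlgSt.Cat S} {T : Over S}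
  {y₁ y₂ : FibCat.overCat T ⥤ᵇ 𝒳}

/-- a point of the sheaf of vertical morphisms -/
structure IsoPt (y₁ y₂ : FibCat.overCat T ⥤ᵇ 𝒳) (V : Over S) : Type (u + 1) where
  /-- the point of the base -/
  g : V ⟶ T
  /-- the vertical morphism -/
  h : y₁.obj (Over.mk g) ⟶ y₂.obj (Over.mk g)
  lift : 𝒳.p.IsHomLift (𝟙 V) h

/-- the arrow of slices lying over a morphism -/
abbrev ovHom {V W : Over S} (k : W ⟶ V) (g : V ⟶ T) : Over.mk (k ≫ g) ⟶ Over.mk g := Over.homMk k rfl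

namespace IsoPt

lemma vert_ext (hg : FibCat.IsFibGrpd 𝒳.p) {W : Over S} {a : 𝒳.obj} {b b' : Over T} (m : b' ⟶ b)
    (hb' : b'.left = W) (φ ψ : a ⟶ y₂.obj b') [h1 : 𝒳.p.IsHomLift (𝟙 W) φ] [h2 : 𝒳.p.IsHomLift (𝟙 W) ψ]
    (e : φ ≫ y₂.map m = ψ ≫ y₂.map m) : φ = ψ := by
  subst hb'
  haveI := map_over_lift y₂ m
  haveI := FC16.isStronglyCartesian hg m.left (y₂.map m)
  exact Functor.IsStronglyCartesian.ext 𝒳.p m.left (y₂.map m) (𝟙 b'.left) e

variable (hg : FibCat.IsFibGrpd 𝒳.p)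

include hg in
lemma exists_map {V W : Over S} (k : W ⟶ V) (x : IsoPt y₁ y₂ V) :
    ∃ h' : y₁.obj (Over.mk (k ≫ x.g)) ⟶ y₂.obj (Over.mk (k ≫ x.g)),
      𝒳.p.IsHomLift (𝟙 W) h' ∧ h' ≫ y₂.map (ovHom k x.g) = y₁.map (ovHom k x.g) ≫ x.h := by
  haveI := x.lift
  haveI : 𝒳.p.IsHomLift k (y₁.map (ovHom k x.g)) := map_over_lift y₁ (ovHom k x.g)
  haveI : 𝒳.p.IsHomLift k (y₂.map (ovHom k x.g)) := map_over_lift y₂ (ovHom k x.g)
  haveI := FC16.isStronglyCartesian hg k (y₂.map (ovHom k x.g))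
  haveI hc : 𝒳.p.IsHomLift k (y₁.map (ovHom k x.g) ≫ x.h) := by
    have h : 𝒳.p.IsHomLift (k ≫ 𝟙 V) (y₁.map (ovHom k x.g) ≫ x.h) := inferInstance
    rwa [Category.comp_id] at h
  exact ⟨Functor.IsStronglyCartesian.map 𝒳.p k (y₂.map (ovHom k x.g)) (Category.id_comp k).symm
    (y₁.map (ovHom k x.g) ≫ x.h), inferInstance, Functor.IsStronglyCartesian.fac 𝒳.p k _ _ _⟩

/-- restriction -/
noncomputable def map {V W : Over S} (k : W ⟶ V) (x : IsoPt y₁ y₂ V) : IsoPt y₁ y₂ W where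
  g := k ≫ x.g
  h := (exists_map hg k x).choose
  lift := (exists_map hg k x).choose_spec.1

lemma map_rel {V W : Over S} (k : W ⟶ V) (x : IsoPt y₁ y₂ V) :
    (x.map hg k).h ≫ y₂.map (ovHom k x.g) = y₁.map (ovHom k x.g) ≫ x.h :=
  (exists_map hg k x).choose_spec.2

lemma map_eq {V W : Over S} (k : W ⟶ V) (x : IsoPt y₁ y₂ V) (x' : IsoPt y₁ y₂ W)
    (m : Over.mk x'.g ⟶ Over.mk x.g) (hm : m.left = k) (e : x'.h ≫ y₂.map m = y₁.map m ≫ x.h) :
    x.map hg k = x' := by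
  obtain ⟨g', h', l'⟩ := x'
  have hgg : k ≫ x.g = g' := hm ▸ Over.w m
  subst hgg
  obtain rfl : m = ovHom k x.g := Over.OverMorphism.ext hm
  show IsoPt.mk (k ≫ x.g) _ _ = IsoPt.mk (k ≫ x.g) _ _
  congr 1
  exact @vert_ext _ _ _ _ hg W _ _ _ (ovHom k x.g) rfl _ _ (x.map hg k).lift l' ((map_rel hg k x).trans e.symm)

lemma map_id {V : Over S} (x : IsoPt y₁ y₂ V) : x.map hg (𝟙 V) = x :=
  map_eq hg (𝟙 V) x x (𝟙 _) rfl (by simp)

lemma map_comp {V W Z : Over S} (k : W ⟶ V) (k' : Z ⟶ W) (x : IsoPt y₁ y₂ V) :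
    x.map hg (k' ≫ k) = (x.map hg k).map hg k' := by
  refine map_eq hg (k' ≫ k) x _ (ovHom k' (k ≫ x.g) ≫ ovHom k x.g) rfl ?_
  rw [Functor.map_comp, Functor.map_comp, ← Category.assoc]
  refine (congrArg (fun q => q ≫ y₂.map (ovHom k x.g)) (map_rel hg k' (x.map hg k))).trans ?_
  rw [Category.assoc, Category.assoc]
  exact congrArg (fun q => y₁.map (ovHom k' (k ≫ x.g)) ≫ q) (map_rel hg k x)

/-- the morphism of a point, over an equal point of the base -/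
def homAt {V : Over S} (x : IsoPt y₁ y₂ V) (g : V ⟶ T) (e : x.g = g) :
    y₁.obj (Over.mk g) ⟶ y₂.obj (Over.mk g) := e ▸ x.h

lemma homAt_lift {V : Over S} (x : IsoPt y₁ y₂ V) (g : V ⟶ T) (e : x.g = g) :
    𝒳.p.IsHomLift (𝟙 V) (x.homAt g e) := by subst e; exact x.lift

lemma homAt_congr {V : Over S} {x x' : IsoPt y₁ y₂ V} (hx : x = x') {g : V ⟶ T} (e : x.g = g)
    (e' : x'.g = g) : x.homAt g e = x'.homAt g e' := by subst hx; rfl

lemma eq_of_homAt {V : Over S} {x x' : IsoPt y₁ y₂ V} {g : V ⟶ T} (e : x.g = g) (e' : x'.g = g)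
    (h : x.homAt g e = x'.homAt g e') : x = x' := by
  subst e
  obtain ⟨a', b', c'⟩ := x'
  dsimp only at e'
  subst e'
  obtain ⟨a, b, c⟩ := x
  obtain rfl : b = b' := h
  rfl

lemma homAt_nat {V W : Over S} (x : IsoPt y₁ y₂ V) {g : V ⟶ T} (e : x.g = g) {k : W ⟶ V} {g' : W ⟶ T}
    (m : Over.mk g' ⟶ Over.mk g) (hm : m.left = k) (e' : (x.map hg k).g = g') :
    (x.map hg k).homAt g' e' ≫ y₂.map m = y₁.map m ≫ x.homAt g e := by
  subst e; subst e'
  obtain rfl : m = ovHom k x.g := Over.OverMorphism.ext hm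
  exact map_rel hg k x

lemma h_of_homAt {Z : Over S} (x : IsoPt y₁ y₂ Z) {g' : Z ⟶ T} (e : x.g = g') {b : Over T}
    {χ : y₁.obj b ⟶ y₂.obj b} (m : Over.mk g' ⟶ b) (m₀ : Over.mk x.g ⟶ b) (hm : m.left = m₀.left)
    (h : x.homAt g' e ≫ y₂.map m = y₁.map m ≫ χ) : x.h ≫ y₂.map m₀ = y₁.map m₀ ≫ χ := by
  subst e
  obtain rfl : m = m₀ := Over.OverMorphism.ext hm
  exact h

variable (y₁ y₂)

/-- the presheaf of vertical morphisms -/
noncomputable def psh : (Over S)ᵒᵖ ⥤ Type (u + 1) where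
  obj V := IsoPt y₁ y₂ V.unop
  map k := TypeCat.ofHom (IsoPt.map hg k.unop)
  map_id V := by
    ext x
    exact map_id hg x
  map_comp k k' := by
    ext x
    exact map_comp hg k.unop k'.unop x

variable {y₁ y₂}

theorem isSheaf_psh (hp : ∀ ⦃V : Over S⦄ (W : Sieve V), W ∈ AlgSp.J S V → GluesHom W 𝒳) :
    Presheaf.IsSheaf (AlgSp.J S) (psh y₁ y₂ hg) := by
  rw [isSheaf_iff_isSheaf_of_type]
  intro V W hW fam hfam
  rw [Presieve.compatible_iff_sieveCompatible] at hfam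
  have hfam' : ∀ {Z Z' : Over S} (l : Z ⟶ V) (m : Z' ⟶ Z) (hl : W l),
      fam (m ≫ l) (W.downward_closed hl m) = (fam l hl).map hg m := fun l m hl => hfam l m hl
  have hfc : ∀ {Z : Over S} {l l' : Z ⟶ V} (hl : W l) (hl' : W l'), l = l' → fam l hl = fam l' hl' := by
    rintro Z l l' hl hl' rfl; rfl
  obtain ⟨y, hy, hyu⟩ := existsUnique_glue hW (fun l hl => (AlgSp.yon S).map (fam l hl).g) (fun m l hl => by
    rw [← Functor.map_comp, hfam' l m hl]
    rfl)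
  let g : V ⟶ T := (AlgSp.yon S).preimage y
  have hgl : ∀ {Z : Over S} (l : Z ⟶ V) (hl : W l), (fam l hl).g = l ≫ g := fun l hl => by
    apply (AlgSp.yon S).map_injective
    rw [Functor.map_comp, Functor.map_preimage, hy l hl]
  let s₁ : FibCat.overCat V ⥤ᵇ 𝒳 := BasedFunctor.comp (overMap g) y₁
  let s₂ : FibCat.overCat V ⥤ᵇ 𝒳 := BasedFunctor.comp (overMap g) y₂
  let φ : ∀ c : (Stk.sieveCat W).obj, s₁.obj c.obj ⟶ s₂.obj c.obj := fun c =>
    (fam c.obj.hom c.property).homAt (c.obj.hom ≫ g) (hgl _ _)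
  have φl : ∀ c : (Stk.sieveCat W).obj, 𝒳.p.IsHomLift (𝟙 c.obj.left) (φ c) := fun c => homAt_lift _ _ _
  have φn : ∀ {a b : (Stk.sieveCat W).obj} (m : a ⟶ b), φ a ≫ s₂.map m.hom = s₁.map m.hom ≫ φ b := by
    intro a b m
    have e : fam a.obj.hom a.property = (fam b.obj.hom b.property).map hg m.hom.left :=
      (hfc _ (W.downward_closed b.property _) (Over.w m.hom).symm).trans (hfam' _ _ _)
    have h := homAt_nat hg (fam b.obj.hom b.property) (hgl _ b.property)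
      ((overMap g).map m.hom) rfl (by
        show m.hom.left ≫ (fam b.obj.hom b.property).g = a.obj.hom ≫ g
        rw [hgl, ← Category.assoc, Over.w m.hom])
    refine Eq.trans ?_ h
    exact congrArg (fun q => q ≫ s₂.map m.hom) (homAt_congr e _ _)
  let t := (Stk.resSieve W 𝒳).obj s₁
  let c' : Cocone t :=
    { pt := s₂.obj (Over.mk (𝟙 V))
      over := s₂.w_obj _
      θ := fun c => φ c ≫ s₂.map (toTerm c.obj)
      lift := fun c => by
        haveI := φl c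
        haveI : 𝒳.p.IsHomLift c.obj.hom (s₂.map (toTerm c.obj)) := map_toTerm_lift s₂ c.obj
        have h : 𝒳.p.IsHomLift (𝟙 c.obj.left ≫ c.obj.hom) (φ c ≫ s₂.map (toTerm c.obj)) := inferInstance
        rwa [Category.id_comp] at h
      nat := fun {a b} m => by
        show s₁.map m.hom ≫ φ b ≫ s₂.map (toTerm b.obj) = φ a ≫ s₂.map (toTerm a.obj)
        rw [← Category.assoc, ← φn m, Category.assoc, ← Functor.map_comp]
        congr 2
        exact Over.OverMorphism.ext (Over.w m.hom) }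
  obtain ⟨χ, ⟨hχ, hχθ⟩, hχu⟩ := hp W hW t (resCocone W s₁) c'
  let x : IsoPt y₁ y₂ V := ⟨𝟙 V ≫ g, χ, hχ⟩
  refine ⟨x, fun Z l hl => ?_, fun x' hx' => ?_⟩
  · let c : (Stk.sieveCat W).obj := ⟨Over.mk l, hl⟩
    refine IsoPt.map_eq hg l x (fam l hl) (Over.homMk l ?_) rfl ?_
    · show l ≫ 𝟙 V ≫ g = (fam l hl).g
      rw [Category.id_comp, hgl]
    · exact h_of_homAt (fam l hl) (hgl l hl) (χ := χ) ((overMap g).map (toTerm c.obj)) (Over.homMk l (by
        show l ≫ 𝟙 V ≫ g = (fam l hl).g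
        rw [Category.id_comp, hgl])) rfl (hχθ c).symm
  · have hxg : x'.g = 𝟙 V ≫ g := by
      rw [Category.id_comp]
      apply (AlgSp.yon S).map_injective
      rw [Functor.map_preimage]
      refine hyu _ fun {Z} l hl => ?_
      rw [← Functor.map_comp]
      have e : IsoPt.map hg l x' = fam l hl := hx' l hl
      have e2 : (IsoPt.map hg l x').g = (fam l hl).g := congrArg IsoPt.g e
      exact congrArg (fun q => (AlgSp.yon S).map q) e2
    refine eq_of_homAt hxg (g := 𝟙 V ≫ g) rfl ?_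
    refine hχu _ ⟨homAt_lift x' _ hxg, fun c => ?_⟩
    show s₁.map (toTerm c.obj) ≫ x'.homAt (𝟙 V ≫ g) hxg = φ c ≫ s₂.map (toTerm c.obj)
    have e : IsoPt.map hg c.obj.hom x' = fam c.obj.hom c.property := hx' c.obj.hom c.property
    have h := homAt_nat hg x' hxg (k := c.obj.hom) ((overMap g).map (toTerm c.obj)) rfl
      (by
        show c.obj.hom ≫ x'.g = c.obj.hom ≫ g
        rw [hxg, Category.id_comp])
    refine h.symm.trans ?_
    exact congrArg (fun q => q ≫ s₂.map (toTerm c.obj)) (homAt_congr e _ _)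

end IsoPt

section Diag

variable (hg : FibCat.IsFibGrpd 𝒳.p)
  (z : FibCat.overCat T ⥤ᵇ FibCat.fp (FibCat.toSelf 𝒳) (FibCat.toSelf 𝒳))
  (hp : ∀ ⦃V : Over S⦄ (W : Sieve V), W ∈ AlgSp.J S V → GluesHom W 𝒳)

/-- the first object of a pair -/
abbrev fstOf : FibCat.overCat T ⥤ᵇ 𝒳 :=
  BasedFunctor.comp z (FibCat.fpFst (FibCat.toSelf 𝒳) (FibCat.toSelf 𝒳))

/-- the second object of a pair -/
abbrev sndOf : FibCat.overCat T ⥤ᵇ 𝒳 :=
  BasedFunctor.comp z (FibCat.fpSnd (FibCat.toSelf 𝒳) (FibCat.toSelf 𝒳))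

/-- the sheaf of isomorphisms of a pair -/
noncomputable def isoSheaf : AlgSp.Sp S :=
  ⟨IsoPt.psh (fstOf z) (sndOf z) hg, IsoPt.isSheaf_psh hg hp⟩

/-- the projection of the sheaf of isomorphisms -/
noncomputable def isoLeg : ofSp (isoSheaf hg z hp) ⥤ᵇ FibCat.overCat T where
  toFunctor :=
    { obj := fun a => Over.mk (show IsoPt (fstOf z) (sndOf z) a.base from a.sec).g
      map := fun {a b} f => Over.homMk f.hom (congrArg IsoPt.g f.map_sec) }
  w := rfl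

lemma isoLeg_spMap : ∀ (V : Over S) (x : IsoPt (fstOf z) (sndOf z) V),
    (spMapOfOver (isoLeg hg z hp)).hom.app (op V) x = ⟨x.g⟩ := fun V x => by
  apply ULift.ext
  exact Category.id_comp _

lemma rel_map {a b : (ofSp (isoSheaf hg z hp)).obj} (f : a ⟶ b) :
    (show IsoPt (fstOf z) (sndOf z) a.base from a.sec).h ≫ (sndOf z).map ((isoLeg hg z hp).map f) =
      (fstOf z).map ((isoLeg hg z hp).map f) ≫ (show IsoPt (fstOf z) (sndOf z) b.base from b.sec).h := by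
  have e : IsoPt.map hg f.hom (show IsoPt (fstOf z) (sndOf z) b.base from b.sec) = a.sec := f.map_sec
  refine IsoPt.h_of_homAt _ (congrArg IsoPt.g e).symm
    (ovHom f.hom _) ((isoLeg hg z hp).map f) rfl ?_
  rw [IsoPt.homAt_congr e.symm _ rfl]
  exact IsoPt.map_rel hg f.hom _

theorem exists_equiv : ∃ E : ofSp (isoSheaf hg z hp) ⥤ᵇ FibCat.fp z (FibCat.diag (FibCat.toSelf 𝒳)),
    FibCat.IsEquivOver E ∧
      spMapOfOver (BasedFunctor.comp E (FibCat.fpFst z (FibCat.diag (FibCat.toSelf 𝒳)))) =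
        spMapOfOver (isoLeg hg z hp) := by
  let P := FibCat.fp (FibCat.toSelf 𝒳) (FibCat.toSelf 𝒳)
  let snd₀ : ofSp (isoSheaf hg z hp) ⥤ᵇ 𝒳 := BasedFunctor.comp (isoLeg hg z hp) (fstOf z)
  haveI hiso : ∀ a : (ofSp (isoSheaf hg z hp)).obj,
      IsIso (show IsoPt (fstOf z) (sndOf z) a.base from a.sec).h := fun a =>
    @FC16.isIso_of_vertical _ _ _ _ 𝒳.p hg _ _ _ _ (IsoPt.lift _)
  let e₂ : ∀ a : (ofSp (isoSheaf hg z hp)).obj,
      (sndOf z).obj ((isoLeg hg z hp).obj a) ≅ (fstOf z).obj ((isoLeg hg z hp).obj a) := fun a =>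
    (asIso (show IsoPt (fstOf z) (sndOf z) a.base from a.sec).h).symm
  let c : ∀ a : (ofSp (isoSheaf hg z hp)).obj,
      z.obj ((isoLeg hg z hp).obj a) ≅ (FibCat.diag (FibCat.toSelf 𝒳)).obj (snd₀.obj a) := fun a =>
    fpIsoMk (x := z.obj ((isoLeg hg z hp).obj a)) (y := (FibCat.diag (FibCat.toSelf 𝒳)).obj (snd₀.obj a))
      (Iso.refl _) (e₂ a) (by
        haveI := (show IsoPt (fstOf z) (sndOf z) a.base from a.sec).lift
        haveI l : 𝒳.p.IsHomLift (𝟙 a.base) (e₂ a).hom :=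
          inferInstanceAs (𝒳.p.IsHomLift (𝟙 a.base) (inv (show IsoPt (fstOf z) (sndOf z) a.base from a.sec).h))
        haveI : 𝒳.p.IsHomLift (𝟙 a.base) (𝟙 ((z.obj ((isoLeg hg z hp).obj a)).obj.fst)) :=
          IsHomLift.id ((fstOf z).w_obj _)
        haveI := iso_lift (z.obj ((isoLeg hg z hp).obj a)) (U := a.base) ((fstOf z).w_obj _)
        haveI := iso_lift ((FibCat.diag (FibCat.toSelf 𝒳)).obj (snd₀.obj a)) (U := a.base) (snd₀.w_obj a)
        haveI p1 : (FibCat.selfOver (Over S)).p.IsHomLift (𝟙 a.base)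
            ((FibCat.toSelf 𝒳).map (𝟙 ((z.obj ((isoLeg hg z hp).obj a)).obj.fst))) :=
          BasedFunctor.preserves_isHomLift _ _ _
        haveI p2 : (FibCat.selfOver (Over S)).p.IsHomLift (𝟙 a.base) ((FibCat.toSelf 𝒳).map (e₂ a).hom) :=
          BasedFunctor.preserves_isHomLift _ _ _
        have l1 : (FibCat.selfOver (Over S)).p.IsHomLift (𝟙 a.base ≫ 𝟙 a.base)
            ((FibCat.toSelf 𝒳).map (𝟙 ((z.obj ((isoLeg hg z hp).obj a)).obj.fst)) ≫
              ((FibCat.diag (FibCat.toSelf 𝒳)).obj (snd₀.obj a)).obj.iso.hom) :=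
          @IsHomLift.comp _ _ _ _ (FibCat.selfOver (Over S)).p _ _ _ _ _ _ _ _ _ _ p1
            (iso_lift ((FibCat.diag (FibCat.toSelf 𝒳)).obj (snd₀.obj a)) (U := a.base) (snd₀.w_obj a))
        have l2 : (FibCat.selfOver (Over S)).p.IsHomLift (𝟙 a.base ≫ 𝟙 a.base)
            ((z.obj ((isoLeg hg z hp).obj a)).obj.iso.hom ≫ (FibCat.toSelf 𝒳).map (e₂ a).hom) :=
          @IsHomLift.comp _ _ _ _ (FibCat.selfOver (Over S)).p _ _ _ _ _ _ _ _ _ _
            (iso_lift (z.obj ((isoLeg hg z hp).obj a)) (U := a.base) ((fstOf z).w_obj _)) p2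
        exact @selfOver_hom_ext _ _ _ _ _ _ (𝟙 a.base ≫ 𝟙 a.base) _ _ l1 l2)
  let i : BasedFunctor.comp (isoLeg hg z hp) z ≅ BasedFunctor.comp snd₀ (FibCat.diag (FibCat.toSelf 𝒳)) :=
    BasedNatIso.mkNatIso (NatIso.ofComponents c (fun {a b} f => by
        refine fp_hom_ext ?_ ?_
        · show (fstOf z).map ((isoLeg hg z hp).map f) ≫ 𝟙 _ = 𝟙 _ ≫ snd₀.map f
          rw [Category.comp_id, Category.id_comp]
          rfl
        · show (sndOf z).map ((isoLeg hg z hp).map f) ≫ (e₂ b).hom = (e₂ a).hom ≫ snd₀.map f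
          rw [← cancel_mono (e₂ b).inv, Category.assoc, Iso.hom_inv_id, Category.comp_id,
            ← cancel_epi (e₂ a).inv, Category.assoc, Iso.inv_hom_id_assoc]
          exact rel_map hg z hp f))
      (fun a => isHomLift_of_fst (𝟙 a.base) (h := IsHomLift.id ((fstOf z).w_obj _)) (c a).hom)
  let E := FibCat.fpLift (F := z) (G := FibCat.diag (FibCat.toSelf 𝒳)) (isoLeg hg z hp) snd₀ i
  haveI : E.toFunctor.Faithful := ⟨fun {a b f f'} h => by
    have h1 := congrArg (fun q => q.hom.fst) h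
    exact Stk.EltObj.hom_ext (congrArg CommaMorphism.left h1)⟩
  haveI : E.toFunctor.Full := ⟨fun {a b} θ => by
    have hw : z.map θ.hom.fst ≫ (c b).hom = (c a).hom ≫ (FibCat.diag (FibCat.toSelf 𝒳)).map θ.hom.snd :=
      fp_w θ
    have h1 : (fstOf z).map θ.hom.fst ≫ 𝟙 _ = 𝟙 _ ≫ θ.hom.snd := congrArg (fun q => q.hom.fst) hw
    have h2 : (sndOf z).map θ.hom.fst ≫ (e₂ b).hom = (e₂ a).hom ≫ θ.hom.snd :=
      congrArg (fun q => q.hom.snd) hw
    have h1' : (fstOf z).map θ.hom.fst = θ.hom.snd :=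
      (Category.comp_id _).symm.trans (h1.trans (Category.id_comp _))
    have hs : IsoPt.map hg θ.hom.fst.left (show IsoPt (fstOf z) (sndOf z) b.base from b.sec) = a.sec :=
      IsoPt.map_eq hg _ _ _ θ.hom.fst rfl (by
        rw [h1']
        rw [← cancel_mono (e₂ b).hom, Category.assoc, h2, Category.assoc]
        exact ((Iso.inv_hom_id_assoc (e₂ a) _).trans (Category.comp_id _).symm).trans
          (congrArg (fun q => θ.hom.snd ≫ q) (Iso.inv_hom_id (e₂ b)).symm))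
    exact ⟨⟨θ.hom.fst.left, hs⟩, fp_hom_ext (Over.OverMorphism.ext rfl)
      ((congrArg (fstOf z).map (Over.OverMorphism.ext rfl)).trans h1')⟩⟩
  refine ⟨E, isEquivOver_of _ fun w => ?_, rfl⟩
  obtain ⟨⟨a, b, j⟩, hj⟩ := w
  obtain ⟨al, ⟨⟨⟩⟩, g⟩ := a
  haveI hj' : P.p.IsHomLift (𝟙 al) j.hom := hj
  haveI hjinv : P.p.IsHomLift (𝟙 al) j.inv := inferInstance
  haveI j1 := isHomLift_fst (𝟙 al) j.hom
  haveI j2 := isHomLift_snd (𝟙 al) j.inv
  let hh : (fstOf z).obj (Over.mk g) ⟶ (sndOf z).obj (Over.mk g) := j.hom.hom.fst ≫ j.inv.hom.snd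
  have hl : 𝒳.p.IsHomLift (𝟙 al) hh := by
    have h : 𝒳.p.IsHomLift (𝟙 al ≫ 𝟙 al) (j.hom.hom.fst ≫ j.inv.hom.snd) :=
      @IsHomLift.comp _ _ _ _ 𝒳.p _ _ _ _ _ _ _ _ _ _ j1 j2
    rwa [Category.id_comp] at h
  let ξ : (ofSp (isoSheaf hg z hp)).obj := ⟨al, ⟨g, hh, hl⟩⟩
  let e1 : (isoLeg hg z hp).obj ξ ≅ Over.mk g := Iso.refl _
  let e2 : snd₀.obj ξ ≅ b :=
    { hom := j.hom.hom.fst
      inv := j.inv.hom.fst
      hom_inv_id := congrArg (fun q => q.hom.fst) j.hom_inv_id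
      inv_hom_id := congrArg (fun q => q.hom.fst) j.inv_hom_id }
  have hw : z.map e1.hom ≫ j.hom = (c ξ).hom ≫ (FibCat.diag (FibCat.toSelf 𝒳)).map e2.hom := by
    have hz : z.map e1.hom = 𝟙 _ := z.toFunctor.map_id _
    refine fp_hom_ext ?_ ?_
    · show (z.map e1.hom).hom.fst ≫ j.hom.hom.fst = 𝟙 _ ≫ j.hom.hom.fst
      rw [hz]; rfl
    · show (z.map e1.hom).hom.snd ≫ j.hom.hom.snd = (e₂ ξ).hom ≫ j.hom.hom.fst
      rw [hz, ← cancel_epi (e₂ ξ).inv, Iso.inv_hom_id_assoc]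
      show hh ≫ 𝟙 _ ≫ j.hom.hom.snd = _
      rw [Category.id_comp, Category.assoc]
      exact (congrArg (fun q => j.hom.hom.fst ≫ q) (congrArg (fun q => q.hom.snd) j.inv_hom_id)).trans
        (Category.comp_id _)
  let d : E.obj ξ ≅ (⟨⟨Over.mk g, b, j⟩, hj⟩ : (FibCat.fp z (FibCat.diag (FibCat.toSelf 𝒳))).obj) :=
    fpIsoMk (x := E.obj ξ) e1 e2 hw
  refine ⟨ξ, d, ?_⟩
  haveI : (FibCat.overCat T).p.IsHomLift (𝟙 al) d.hom.hom.fst := IsHomLift.map (FibCat.overCat T).p e1.hom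
  exact isHomLift_of_fst (𝟙 al) d.hom

end Diag

end Groth.Agent.GerbBand16
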